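import Cfsg.Agent.S0182
import Cfsg.Agent.H26.Invol
import Cfsg.Agent.H65.Invol
import Mathlib.GroupTheory.Sylow
import Mathlib.GroupTheory.Transfer
import Mathlib.GroupTheory.GroupAction.Quotient

/-!
# Simple groups in which commuting is transitive: the centraliser of an involution
-/

set_option autoImplicit false
set_option linter.unusedSectionVars false
set_option linter.style.haveILetI false

namespace Cfsg.Agent.H65.CT

universe u

/-- The situation: commuting is transitive, `A` is the abelian centraliser of each of its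
non-identity elements and contains a Sylow 2-subgroup, and the group is nonabelian simple. -/
structure Setup (G : Type u) [Group G] where
  t : G
  ht : orderOf t = 2
  A : Subgroup G
  htA : t ∈ A
  comm : ∀ x ∈ A, ∀ y ∈ A, Commute x y
  cent : ∀ x ∈ A, x ≠ 1 → ∀ g : G, Commute g x → g ∈ A
  hsyl : ∃ S : Sylow 2 G, (S : Subgroup G) ≤ A
  ct : ∀ a b c : G, a ≠ 1 → b ≠ 1 → c ≠ 1 → Commute a b → Commute b c → Commute a c

variable {G : Type u} [Group G] [Finite G]

theorem exists_setup [IsSimpleGroup G] (hG : ¬ IsMulCommutative G)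
    (h : ∀ a b c : G, a ≠ 1 → b ≠ 1 → c ≠ 1 → Commute a b → Commute b c → Commute a c) :
    Nonempty (Setup G) := by
  haveI : Fact (Nat.Prime 2) := ⟨Nat.prime_two⟩
  have hab : ∀ x : G, x ≠ 1 → ∀ a : G, Commute a x → ∀ b : G, Commute b x → Commute a b := by
    intro x hx a ha b hb
    by_cases ha1 : a = 1
    · subst ha1; exact Commute.one_left b
    by_cases hb1 : b = 1
    · subst hb1; exact Commute.one_right a
    exact h a x b ha1 hx hb1 ha hb.symm
  have hev : 2 ∣ Nat.card G := by
    rw [← even_iff_two_dvd]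
    by_contra hcon
    have hsol := S0182.result (Nat.not_even_iff_odd.1 hcon) fun x hx a ha b hb =>
      (hab x hx a (Subgroup.mem_centralizer_singleton_iff.1 ha)
        b (Subgroup.mem_centralizer_singleton_iff.1 hb)).eq
    exact hG ⟨⟨IsSimpleGroup.comm_iff_isSolvable.2 hsol⟩⟩
  obtain ⟨S⟩ := (inferInstance : Nonempty (Sylow 2 G))
  obtain ⟨v, hv⟩ := exists_prime_orderOf_dvd_card' 2 hev
  haveI : Nontrivial ↥(S : Subgroup G) := by
    rw [← Finite.one_lt_card_iff_nontrivial]
    exact lt_of_lt_of_le Nat.one_lt_two (Nat.le_of_dvd Nat.card_pos (S.dvd_card_of_dvd_card hev))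
  haveI := S.2.center_nontrivial
  obtain ⟨k, hk⟩ := IsPGroup.iff_card.1 (S.2.to_subgroup (Subgroup.center ↥(S : Subgroup G)))
  have h2 : 2 ∣ Nat.card ↥(Subgroup.center ↥(S : Subgroup G)) := by
    rw [hk]
    refine dvd_pow_self 2 fun h0 => ?_
    rw [h0, pow_zero] at hk
    exact absurd hk (Finite.one_lt_card.ne')
  obtain ⟨z, hz⟩ := exists_prime_orderOf_dvd_card' 2 h2
  set t : G := ((z : ↥(S : Subgroup G)) : G) with htdef
  have ht : orderOf t = 2 := by rw [htdef, Subgroup.orderOf_coe, Subgroup.orderOf_coe, hz]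
  refine ⟨{ t := t, ht := ht, A := Subgroup.centralizer ({t} : Set G),
            htA := Subgroup.mem_centralizer_singleton_iff.2 rfl,
            comm := fun x hx y hy => hab t (ne_one_of_orderOf ht)
              x (Subgroup.mem_centralizer_singleton_iff.1 hx)
              y (Subgroup.mem_centralizer_singleton_iff.1 hy),
            cent := fun x hx hx1 g hg => Subgroup.mem_centralizer_singleton_iff.2
              (hab x hx1 g hg t (show Commute x t from
                Subgroup.mem_centralizer_singleton_iff.1 hx).symm),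
            hsyl := ⟨S, fun x hx => Subgroup.mem_centralizer_singleton_iff.2
              (congrArg Subtype.val (Subgroup.mem_center_iff.1 z.2 ⟨x, hx⟩))⟩,
            ct := h }⟩

variable (D : Setup G)

theorem Setup.t_ne_one : D.t ≠ 1 := ne_one_of_orderOf D.ht

/-- `A` is a TI subgroup. -/
theorem Setup.ti {g x : G} (hx : x ∈ D.A) (hx1 : x ≠ 1) (hg : g * x * g⁻¹ ∈ D.A) :
    g ∈ Subgroup.normalizer (D.A : Set G) := by
  have hg1 : g * x * g⁻¹ ≠ 1 := fun e => hx1 (conj_eq_one_iff.1 e)
  refine Subgroup.mem_normalizer_iff.2 fun y => ⟨fun hy => D.cent _ hg hg1 _ ?_,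
    fun hy => D.cent x hx hx1 y ?_⟩
  · exact (D.comm y hy x hx).map (MulAut.conj g).toMonoidHom
  · have h := (D.comm _ hy _ hg).map (MulAut.conj g⁻¹).toMonoidHom
    simpa [mul_assoc] using h

theorem Setup.normalizer_ne_top [IsSimpleGroup G] (hG : ¬ IsMulCommutative G) :
    Subgroup.normalizer (D.A : Set G) ≠ ⊤ := by
  intro h
  haveI : D.A.Normal := Subgroup.normalizer_eq_top_iff.1 h
  rcases Subgroup.Normal.eq_bot_or_eq_top (inferInstance : D.A.Normal) with e | e
  · exact D.t_ne_one (Subgroup.mem_bot.1 (e ▸ D.htA))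
  · exact hG ⟨⟨fun a b => D.comm a (e ▸ Subgroup.mem_top a) b (e ▸ Subgroup.mem_top b)⟩⟩

/-- All involutions are conjugate. -/
theorem Setup.hone [IsSimpleGroup G] (hG : ¬ IsMulCommutative G) {x : G} (hx : orderOf x = 2) :
    IsConj D.t x := by
  by_contra hnc
  -- every involution not conjugate to `x` has a centraliser containing `x`
  have key : ∀ y : G, orderOf y = 2 → ¬ IsConj y x → Commute x y := by
    intro y hy hyx
    obtain ⟨w, hw, hwy, hwx⟩ := H65.exists_invol_commute_of_not_isConj hy hx hyx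
    exact D.ct x w y (ne_one_of_orderOf hx) (ne_one_of_orderOf hw) (ne_one_of_orderOf hy)
      hwx.symm hwy
  have hxA : x ∈ D.A := D.cent D.t D.htA D.t_ne_one x (key D.t D.ht hnc)
  refine D.normalizer_ne_top hG ((Subgroup.eq_top_iff' _).2 fun g => ?_)
  have hgt : ¬ IsConj (g * D.t * g⁻¹) x := fun h => hnc ((isConj_iff.2 ⟨g, rfl⟩).trans h)
  have hc := key _ (by rw [H26.orderOf_conj_eq]; exact D.ht) hgt
  have hx' : g⁻¹ * x * g⁻¹⁻¹ ∈ D.A := by
    refine D.cent D.t D.htA D.t_ne_one _ ?_
    have h := hc.map (MulAut.conj g⁻¹).toMonoidHom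
    simpa [mul_assoc] using h
  have := Subgroup.inv_mem _ (D.ti hxA (ne_one_of_orderOf hx) hx')
  rwa [inv_inv] at this

end Cfsg.Agent.H65.CT
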