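import Cfsg.Agent.H65.CT.Basic
import Cfsg.Agent.H65.BSW.Common

/-!
# Simple groups in which commuting is transitive: the normaliser of the involution centraliser

The normaliser `N` of `A` is Frobenius with kernel `A`; counting the involutions in its cosets
shows that all two-point stabilisers have order `|N : A|` and are inverted by the involutions
swapping the two points.
-/

set_option autoImplicit false
set_option linter.unusedSectionVars false
set_option linter.style.haveILetI false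

open MulAction Finset
open scoped Pointwise

namespace Cfsg.Agent.H65.CT

universe u

variable {G : Type u} [Group G] [Finite G] (D : Setup G)

/-- The normaliser of `A`. -/
abbrev Setup.N : Subgroup G := Subgroup.normalizer (D.A : Set G)

/-- The index of `A` in its normaliser. -/
noncomputable abbrev Setup.m : ℕ := (D.A.subgroupOf D.N).index

theorem Setup.A_le : D.A ≤ D.N := Subgroup.le_normalizer

theorem Setup.card_N : Nat.card ↥D.A * D.m = Nat.card ↥D.N := by
  rw [← Nat.card_congr (Subgroup.subgroupOfEquivOfLe D.A_le).toEquiv]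
  exact Subgroup.card_mul_index _

theorem Setup.conj_mem {n x : G} (hn : n ∈ D.N) (hx : x ∈ D.A) : n * x * n⁻¹ ∈ D.A :=
  (Subgroup.mem_normalizer_iff.1 hn x).1 hx

/-- The classes of `N` in `A#` have `|N : A|` elements. -/
theorem Setup.card_class {x : G} (hx : x ∈ D.A) (hx1 : x ≠ 1) :
    Nat.card {g : ↥D.N // IsConj (⟨x, D.A_le hx⟩ : ↥D.N) g} = D.m := by
  have h := H26.card_conj_mul_card_centralizer (⟨x, D.A_le hx⟩ : ↥D.N)
  have e : Subgroup.centralizer ({(⟨x, D.A_le hx⟩ : ↥D.N)} : Set ↥D.N) = D.A.subgroupOf D.N := by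
    ext n
    rw [Subgroup.mem_centralizer_singleton_iff, Subgroup.mem_subgroupOf, Subtype.ext_iff]
    exact ⟨fun hn => D.cent x hx hx1 _ hn, fun hn => (D.comm _ hn x hx).eq⟩
  rw [e, ← Subgroup.card_mul_index (D.A.subgroupOf D.N), mul_comm] at h
  exact Nat.eq_of_mul_eq_mul_left Nat.card_pos h

/-- `|N : A|` divides `|A| - 1`. -/
theorem Setup.m_dvd : D.m ∣ Nat.card ↥D.A - 1 := by
  classical
  haveI := Fintype.ofFinite G
  haveI := Fintype.ofFinite ↥D.N
  set U : Finset ↥D.N := (univ : Finset ↥D.N).filter fun g : ↥D.N => (g : G) ∈ D.A ∧ g ≠ 1 with hU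
  have hcard : U.card = Nat.card ↥D.A - 1 := by
    have : U = ((univ : Finset ↥D.N).filter fun g => g ∈ D.A.subgroupOf D.N).erase 1 := by
      ext g; simp [hU, Subgroup.mem_subgroupOf, and_comm]
    rw [this, Finset.card_erase_of_mem (Finset.mem_filter.2 ⟨mem_univ _, one_mem _⟩),
      ← Fintype.card_subtype, ← Nat.card_eq_fintype_card]
    congr 1
    exact Nat.card_congr (Subgroup.subgroupOfEquivOfLe D.A_le).toEquiv
  rw [← hcard, Finset.card_eq_sum_card_image ConjClasses.mk U]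
  refine Finset.dvd_sum fun c hc => ?_
  obtain ⟨g, hg, rfl⟩ := Finset.mem_image.1 hc
  obtain ⟨-, hgA, hg1⟩ := Finset.mem_filter.1 hg
  have hg1' : (g : G) ≠ 1 := fun e => hg1 (Subtype.ext e)
  refine dvd_of_eq ?_
  rw [← D.card_class hgA hg1', Nat.card_eq_fintype_card, Fintype.card_subtype]
  congr 1
  ext y
  simp only [hU, Finset.mem_filter, mem_univ, true_and, ConjClasses.mk_eq_mk_iff_isConj]
  refine ⟨fun h => ⟨?_, h.symm⟩, fun h => h.2.symm⟩
  obtain ⟨n, hn⟩ := isConj_iff.1 h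
  refine ⟨?_, fun e => hg1 ?_⟩
  · rw [← congrArg Subtype.val hn]
    exact D.conj_mem n.2 hgA
  · rw [e] at h; exact isConj_one_left.1 h

theorem Setup.coprime : Nat.Coprime D.m (Nat.card ↥D.A) := by
  have h1 : 0 < Nat.card ↥D.A := Nat.card_pos
  have h2 : D.m.gcd (Nat.card ↥D.A) ∣ Nat.card ↥D.A - 1 := (Nat.gcd_dvd_left _ _).trans D.m_dvd
  have h3 := Nat.dvd_sub (Nat.gcd_dvd_right D.m (Nat.card ↥D.A)) h2
  rw [show Nat.card ↥D.A - (Nat.card ↥D.A - 1) = 1 by omega] at h3
  exact Nat.dvd_one.1 h3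

/-- An element of `N` of order dividing `|A|` lies in `A`. -/
theorem Setup.mem_of_pow {n : G} (hn : n ∈ D.N) (h : orderOf n ∣ Nat.card ↥D.A) : n ∈ D.A := by
  haveI : (D.A.subgroupOf D.N).Normal := Subgroup.normal_in_normalizer
  have h1 := Subgroup.pow_index_mem (D.A.subgroupOf D.N) ⟨n, hn⟩
  rw [Subgroup.mem_subgroupOf, Subgroup.coe_pow] at h1
  have h2 : Subgroup.zpowers (n ^ D.m) = Subgroup.zpowers n := by
    refine Subgroup.eq_of_le_of_card_ge (Subgroup.zpowers_le.2 (Subgroup.pow_mem _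
      (Subgroup.mem_zpowers n) _)) ?_
    rw [Nat.card_zpowers, Nat.card_zpowers,
      Nat.Coprime.orderOf_pow (Nat.Coprime.coprime_dvd_left h D.coprime.symm)]
  exact Subgroup.zpowers_le.2 h1 (h2.symm ▸ Subgroup.mem_zpowers n)

theorem Setup.two_dvd_A : 2 ∣ Nat.card ↥D.A := D.ht ▸ Subgroup.orderOf_dvd_natCard D.A D.htA

theorem Setup.invol_mem {x : G} (hx : orderOf x = 2) (hn : x ∈ D.N) : x ∈ D.A :=
  D.mem_of_pow hn (hx ▸ D.two_dvd_A)

theorem Setup.m_odd : Odd D.m := Nat.coprime_two_right.1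
  (Nat.Coprime.coprime_dvd_right D.two_dvd_A D.coprime)

variable [IsSimpleGroup G] (hG : ¬ IsMulCommutative G)
include hG

theorem Setup.card_invol_A : Nat.card {x : G // x ∈ D.A ∧ orderOf x = 2} = D.m := by
  rw [← D.card_class D.htA D.t_ne_one]
  refine Nat.card_congr
    { toFun := fun x => ⟨⟨x, D.A_le x.2.1⟩, ?_⟩
      invFun := fun g => ⟨((g : ↥D.N) : G), ?_⟩
      left_inv := fun x => rfl
      right_inv := fun g => rfl }
  · obtain ⟨g, hg⟩ := isConj_iff.1 (D.hone hG x.2.2)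
    exact isConj_iff.2 ⟨⟨g, D.ti D.htA D.t_ne_one (hg ▸ x.2.1)⟩, Subtype.ext hg⟩
  · obtain ⟨n, hn⟩ := isConj_iff.1 g.2
    refine ⟨congrArg Subtype.val hn ▸ D.conj_mem n.2 D.htA, ?_⟩
    rw [← congrArg Subtype.val hn]
    exact (H26.orderOf_conj_eq _ _).trans D.ht

theorem Setup.m_ne_one : D.m ≠ 1 := by
  intro hm
  haveI : Fact (Nat.Prime 2) := ⟨Nat.prime_two⟩
  have hNA : D.N ≤ D.A := fun n hn => by
    have h := Subgroup.index_eq_one.1 hm
    exact Subgroup.mem_subgroupOf.1 (h ▸ Subgroup.mem_top (⟨n, hn⟩ : ↥D.N))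
  obtain ⟨S, hS⟩ := D.hsyl
  have h2 : ¬ 2 ∣ Nat.card ↥(commutator G) := by
    refine BSW.commutator_dvd 2 fun R x hx => ?_
    obtain ⟨g, rfl⟩ := MulAction.exists_smul_eq G S R
    -- it is enough to treat `S`
    have hmem : ∀ y : G, y ∈ ((g • S : Sylow 2 G) : Subgroup G) ↔ g⁻¹ * y * g ∈ (S : Subgroup G) := by
      intro y
      rw [show ((g • S : Sylow 2 G) : Subgroup G) = MulAut.conj g • (S : Subgroup G) from rfl,
        Subgroup.mem_pointwise_smul_iff_inv_smul_mem, MulAut.smul_def, MulAut.conj_inv_apply]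
    obtain ⟨y, hy, hy1⟩ : ∃ y ∈ (S : Subgroup G), y ≠ 1 := by
      by_contra hcon
      push Not at hcon
      have h := S.dvd_card_of_dvd_card (D.ht ▸ orderOf_dvd_natCard D.t)
      rw [(Subgroup.eq_bot_iff_forall _).2 hcon, Subgroup.card_bot] at h
      omega
    have hxA : g⁻¹ * x * g ∈ D.A := by
      refine hNA (D.ti (hS hy) hy1 (hS ?_))
      have h := (Subgroup.mem_normalizer_iff.1 hx (g * y * g⁻¹)).1 ((hmem _).2 (by
        simpa [mul_assoc] using hy))
      have h' := (hmem _).1 h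
      simpa [mul_assoc] using h'
    refine Subgroup.mem_centralizer_iff.2 fun z hz => ?_
    have h := (D.comm _ (hS ((hmem z).1 hz)) _ hxA).map (MulAut.conj g).toMonoidHom
    simpa [mul_assoc] using h.eq
  rcases Subgroup.Normal.eq_bot_or_eq_top (inferInstance : (commutator G).Normal) with hc | hc
  · refine hG ⟨⟨fun a b => ?_⟩⟩
    exact commutatorElement_eq_one_iff_mul_comm.1 (Subgroup.mem_bot.1
      (hc ▸ Subgroup.commutator_mem_commutator (Subgroup.mem_top a) (Subgroup.mem_top b)))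
  · rw [hc, Subgroup.card_top] at h2
    exact h2 (D.ht ▸ orderOf_dvd_natCard D.t)

/-- The base point. -/
abbrev Setup.base : G ⧸ D.N := ((1 : G) : G ⧸ D.N)

omit hG in
theorem Setup.smul_base {g : G} : g • D.base = D.base ↔ g ∈ D.N := by
  rw [← mem_stabilizer_iff, MulAction.stabilizer_quotient]

omit hG in
/-- Non-identity elements of `A` fix only the base point. -/
theorem Setup.fix {x : G} (hx : x ∈ D.A) (hx1 : x ≠ 1) {P : G ⧸ D.N} (h : x • P = P) :
    P = D.base := by
  obtain ⟨g, rfl⟩ := MulAction.exists_smul_eq G D.base P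
  have h1 : g⁻¹ * x * g ∈ D.N := by
    rw [← D.smul_base, mul_smul, mul_smul, h, inv_smul_smul]
  have h2 : g⁻¹ * x * g ∈ D.A := D.mem_of_pow h1 (by
    rw [show g⁻¹ * x * g = g⁻¹ * x * g⁻¹⁻¹ by group, H26.orderOf_conj_eq]
    exact Subgroup.orderOf_dvd_natCard D.A hx)
  have := D.ti hx hx1 (g := g⁻¹) (by simpa using h2)
  exact D.smul_base.2 (inv_inv g ▸ D.N.inv_mem this)

/-- The elements fixing the base point and `P`. -/
abbrev Setup.two (P : G ⧸ D.N) : Subgroup G := stabilizer G D.base ⊓ stabilizer G P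

omit hG in
theorem Setup.two_inf {P : G ⧸ D.N} (hP : P ≠ D.base) {x : G} (hx : x ∈ D.A) (hx' : x ∈ D.two P) :
    x = 1 := by
  by_contra h
  exact hP (D.fix hx h (Subgroup.mem_inf.1 hx').2)

omit hG in
theorem Setup.two_toQuot_injective {P : G ⧸ D.N} (hP : P ≠ D.base) :
    Function.Injective fun d : ↥(D.two P) =>
      ((⟨d, D.smul_base.1 (Subgroup.mem_inf.1 d.2).1⟩ : ↥D.N) : ↥D.N ⧸ D.A.subgroupOf D.N) := by
  intro d e h
  have h' := QuotientGroup.eq.1 h
  rw [Subgroup.mem_subgroupOf] at h'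
  have := D.two_inf hP h' ((D.two P).mul_mem ((D.two P).inv_mem d.2) e.2)
  exact Subtype.ext (inv_mul_eq_one.1 this)

omit hG in
theorem Setup.two_card_le {P : G ⧸ D.N} (hP : P ≠ D.base) : Nat.card ↥(D.two P) ≤ D.m :=
  Nat.card_le_card_of_injective _ (D.two_toQuot_injective hP)

theorem Setup.card_invol : Nat.card {x : G // orderOf x = 2} = Nat.card (G ⧸ D.N) * D.m := by
  have h := H26.card_conj_mul_card_centralizer D.t
  have e : Subgroup.centralizer ({D.t} : Set G) = D.A := by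
    ext g
    rw [Subgroup.mem_centralizer_singleton_iff]
    exact ⟨fun hg => D.cent D.t D.htA D.t_ne_one g hg, fun hg => (D.comm g hg D.t D.htA).eq⟩
  rw [e] at h
  have e2 : Nat.card {x : G // IsConj D.t x} = Nat.card {x : G // orderOf x = 2} :=
    Nat.card_congr (Equiv.subtypeEquivRight fun x =>
      ⟨fun hx => (orderOf_of_isConj hx).symm.trans D.ht, fun hx => D.hone hG hx⟩)
  rw [e2, Subgroup.card_eq_card_quotient_mul_card_subgroup D.N, ← D.card_N, mul_comm (Nat.card ↥D.A),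
    ← mul_assoc] at h
  exact Nat.eq_of_mul_eq_mul_right Nat.card_pos h

open scoped Classical in
/-- Every point other than the base is the image of the base under exactly `m` involutions; they
invert the two-point stabiliser, which has order `m`. -/
theorem Setup.swap {P : G ⧸ D.N} (hP : P ≠ D.base) :
    Nat.card ↥(D.two P) = D.m ∧ (∃ x : G, orderOf x = 2 ∧ x • D.base = P) ∧
      ∀ x : G, orderOf x = 2 → x • D.base = P → ∀ d ∈ D.two P, x * d * x⁻¹ = d⁻¹ := by
  haveI := Fintype.ofFinite G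
  haveI := Fintype.ofFinite (G ⧸ D.N)
  set cnt : G ⧸ D.N → ℕ := fun Q =>
    ((univ : Finset G).filter fun x => orderOf x = 2 ∧ x • D.base = Q).card with hcnt
  have hsum : ∑ Q, cnt Q = Nat.card (G ⧸ D.N) * D.m := by
    rw [← D.card_invol hG, Nat.card_eq_fintype_card, Fintype.card_subtype,
      Finset.card_eq_sum_card_fiberwise (f := fun x : G => x • D.base) (t := univ)
        (fun x _ => Finset.mem_univ _)]
    refine Finset.sum_congr rfl fun Q _ => ?_
    simp only [hcnt, Finset.filter_filter]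
  have hbase : cnt D.base = D.m := by
    rw [← D.card_invol_A hG, Nat.card_eq_fintype_card, Fintype.card_subtype]
    simp only [hcnt]
    congr 1
    ext x
    simp only [Finset.mem_filter, mem_univ, true_and]
    exact ⟨fun h => ⟨D.invol_mem h.1 (D.smul_base.1 h.2), h.1⟩,
      fun h => ⟨h.2, D.smul_base.2 (D.A_le h.1)⟩⟩
  -- the involutions taking the base to `Q` inject into the inverted elements
  have hle : ∀ Q, Q ≠ D.base → ∀ x₀ : G, orderOf x₀ = 2 → x₀ • D.base = Q →
      cnt Q ≤ ((univ : Finset ↥(D.two Q)).filter fun d : ↥(D.two Q) =>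
        x₀ * (d : G) * x₀⁻¹ = (d : G)⁻¹).card := by
    intro Q hQ x₀ hx₀ hxQ
    have hback : ∀ x : G, orderOf x = 2 → x • D.base = Q → x • Q = D.base := fun x hx h => by
      rw [← h, ← mul_smul, mul_self_eq_one hx, one_smul]
    refine Finset.card_le_card_of_injOn (fun x => if h : x₀ * x ∈ D.two Q then ⟨x₀ * x, h⟩ else 1)
      ?_ ?_
    · intro x hx
      obtain ⟨hx2, hxb⟩ := (Finset.mem_filter.1 (Finset.mem_coe.1 hx)).2
      have hmem : x₀ * x ∈ D.two Q := Subgroup.mem_inf.2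
        ⟨by rw [mem_stabilizer_iff, mul_smul, hxb, hback x₀ hx₀ hxQ],
          by rw [mem_stabilizer_iff, mul_smul, hback x hx2 hxb, hxQ]⟩
      simp only [dif_pos hmem, Finset.mem_coe, Finset.mem_filter, mem_univ, true_and]
      rw [mul_inv_rev, H65.inv_eq_self hx₀, H65.inv_eq_self hx2, ← mul_assoc,
        mul_self_eq_one hx₀, one_mul]
    · intro x hx y hy h
      obtain ⟨hx2, hxb⟩ := (Finset.mem_filter.1 (Finset.mem_coe.1 hx)).2
      obtain ⟨hy2, hyb⟩ := (Finset.mem_filter.1 (Finset.mem_coe.1 hy)).2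
      have hm : ∀ z : G, orderOf z = 2 → z • D.base = Q → x₀ * z ∈ D.two Q := fun z hz hzb =>
        Subgroup.mem_inf.2 ⟨by rw [mem_stabilizer_iff, mul_smul, hzb, hback x₀ hx₀ hxQ],
          by rw [mem_stabilizer_iff, mul_smul, hback z hz hzb, hxQ]⟩
      simp only [dif_pos (hm x hx2 hxb), dif_pos (hm y hy2 hyb)] at h
      exact mul_left_cancel (congrArg Subtype.val h)
  have hle' : ∀ Q, Q ≠ D.base → cnt Q ≤ D.m := by
    intro Q hQ
    by_cases hx : ∃ x₀ : G, orderOf x₀ = 2 ∧ x₀ • D.base = Q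
    · obtain ⟨x₀, h1, h2⟩ := hx
      refine (hle Q hQ x₀ h1 h2).trans ((Finset.card_le_univ _).trans ?_)
      rw [← Nat.card_eq_fintype_card]
      exact D.two_card_le hQ
    · simp only [hcnt]
      rw [Finset.card_eq_zero.2 (Finset.filter_eq_empty_iff.2 fun x _ h => hx ⟨x, h⟩)]
      exact Nat.zero_le _
  have heq : cnt P = D.m := by
    by_contra hne
    have hlt : ∑ Q, cnt Q < ∑ _Q : G ⧸ D.N, D.m := by
      refine Finset.sum_lt_sum (fun Q _ => ?_) ⟨P, mem_univ _, lt_of_le_of_ne (hle' P hP) hne⟩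
      by_cases hQ : Q = D.base
      · rw [hQ, hbase]
      · exact hle' Q hQ
    rw [hsum, Finset.sum_const, Finset.card_univ, smul_eq_mul, ← Nat.card_eq_fintype_card] at hlt
    exact lt_irrefl _ hlt
  have hex : ∃ x : G, orderOf x = 2 ∧ x • D.base = P := by
    by_contra hx
    simp only [hcnt] at heq
    rw [Finset.card_eq_zero.2 (Finset.filter_eq_empty_iff.2 fun x _ h => hx ⟨x, h⟩)] at heq
    exact Nat.not_odd_iff_even.2 ⟨0, heq.symm⟩ D.m_odd
  have key : ∀ x : G, orderOf x = 2 → x • D.base = P →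
      Nat.card ↥(D.two P) = D.m ∧ ∀ d ∈ D.two P, x * d * x⁻¹ = d⁻¹ := by
    intro x hx hxP
    have h := hle P hP x hx hxP
    rw [heq] at h
    have h2 := D.two_card_le hP
    have h3 := (Finset.card_filter_le (univ : Finset ↥(D.two P))
      fun d : ↥(D.two P) => x * (d : G) * x⁻¹ = (d : G)⁻¹)
    rw [Finset.card_univ, ← Nat.card_eq_fintype_card] at h3
    refine ⟨by omega, fun d hd => ?_⟩
    have hall : ((univ : Finset ↥(D.two P)).filter fun d : ↥(D.two P) =>
        x * (d : G) * x⁻¹ = (d : G)⁻¹) = univ := by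
      refine Finset.eq_univ_of_card _ ?_
      rw [← Nat.card_eq_fintype_card]
      omega
    exact (Finset.mem_filter.1 ((Finset.ext_iff.1 hall ⟨d, hd⟩).2 (Finset.mem_univ _))).2
  obtain ⟨x, hx, hxP⟩ := hex
  exact ⟨(key x hx hxP).1, ⟨x, hx, hxP⟩, fun y hy hyP => (key y hy hyP).2⟩

end Cfsg.Agent.H65.CT
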