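import Cfsg.Agent.H65.CT.Count
import Cfsg.Agent.H28.ZassApps
import Cfsg.Agent.S0727
import Cfsg.Agent.Linear.Order

/-!
# Simple groups in which commuting is transitive are the groups `PSL(2, 2^f)`
-/

set_option autoImplicit false
set_option linter.unusedSectionVars false
set_option linter.style.haveILetI false

open MulAction

namespace Cfsg.Agent.H65.CT

universe u

variable {G : Type u} [Group G] [Finite G] (D : Setup G) [IsSimpleGroup G]
  (hG : ¬ IsMulCommutative G)

include hG in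
/-- No non-identity element fixes three points. -/
theorem Setup.unique_fix {d : G} {P Q : G ⧸ D.N} (hP : P ≠ D.base) (hQ : Q ≠ D.base)
    (hd : d ∈ D.two P) (hdQ : d • Q = Q) (hd1 : d ≠ 1) : P = Q := by
  by_contra hne
  obtain ⟨hcP, ⟨xP, hxP, hxPb⟩, hinvP⟩ := D.swap hG hP
  obtain ⟨-, ⟨xQ, hxQ, hxQb⟩, hinvQ⟩ := D.swap hG hQ
  have hdQ' : d ∈ D.two Q := Subgroup.mem_inf.2 ⟨(Subgroup.mem_inf.1 hd).1, hdQ⟩
  have hxPP : xP • P = D.base := by rw [← hxPb, ← mul_smul, mul_self_eq_one hxP, one_smul]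
  set y := xP * xQ with hy
  have hy1 : y ≠ 1 := fun h => hne (by
    rw [← hxPb, ← hxQb, inv_mul_eq_one.1 (show xP⁻¹ * xQ = 1 by rwa [H65.inv_eq_self hxP])])
  have hyd : y * d * y⁻¹ = d := by
    rw [hy, show xP * xQ * d * (xP * xQ)⁻¹ = xP * (xQ * d * xQ⁻¹) * xP⁻¹ by group,
      hinvQ xQ hxQ hxQb d hdQ', hinvP xP hxP hxPb _ ((D.two P).inv_mem hd), inv_inv]
  set R := y • D.base with hR
  have hRP : R = xP • Q := by rw [hR, hy, mul_smul, hxQb]
  have hRb : R ≠ D.base := fun h => hne (by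
    have := congrArg (xP • ·) (hRP.symm.trans h)
    simp only [← mul_smul, mul_self_eq_one hxP, one_smul] at this
    rw [this, hxPb])
  have hdR : d ∈ D.two R := by
    refine Subgroup.mem_inf.2 ⟨(Subgroup.mem_inf.1 hd).1, ?_⟩
    rw [mem_stabilizer_iff, hR, ← mul_smul,
      show d * y = y * d from (mul_inv_eq_iff_eq_mul.1 hyd).symm, mul_smul,
      mem_stabilizer_iff.1 (Subgroup.mem_inf.1 hd).1]
  obtain ⟨-, ⟨xR, hxR, hxRb⟩, hinvR⟩ := D.swap hG hRb
  set n := xR * y with hn
  have hnN : n ∈ D.N := by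
    rw [← D.smul_base, hn, mul_smul, ← hR, ← hxRb, ← mul_smul, mul_self_eq_one hxR, one_smul]
  have hnd : n * d * n⁻¹ = d⁻¹ := by
    rw [hn, show xR * y * d * (xR * y)⁻¹ = xR * (y * d * y⁻¹) * xR⁻¹ by group, hyd,
      hinvR xR hxR hxRb d hdR]
  -- `n = a c` with `a ∈ A` and `c` in the abelian two-point stabiliser
  have hdN : ∀ c ∈ D.two P, c ∈ D.N := fun c hc => D.smul_base.1 (Subgroup.mem_inf.1 hc).1
  obtain ⟨c, hc, hac⟩ : ∃ c ∈ D.two P, c⁻¹ * n ∈ D.A := by
    have hbij := (D.two_toQuot_injective hP).bijective_of_nat_card_le (le_of_eq hcP.symm)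
    obtain ⟨c, hc⟩ := hbij.2 ((⟨n, hnN⟩ : ↥D.N) : ↥D.N ⧸ D.A.subgroupOf D.N)
    have h := QuotientGroup.eq.1 hc
    exact ⟨c, c.2, h⟩
  have hcd : c * d * c⁻¹ = d := by
    have h1 := hinvP xP hxP hxPb (c * d) ((D.two P).mul_mem hc hd)
    rw [show xP * (c * d) * xP⁻¹ = (xP * c * xP⁻¹) * (xP * d * xP⁻¹) by group,
      hinvP xP hxP hxPb c hc, hinvP xP hxP hxPb d hd] at h1
    have h2 : d * c = c * d := by
      have h3 := congrArg (fun z : G => z⁻¹) h1
      simpa using h3
    rw [← h2, mul_inv_cancel_right]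
  set a := c⁻¹ * n with ha
  have haA : n * d * n⁻¹ * d⁻¹ ∈ D.A := by
    rw [show n * d * n⁻¹ * d⁻¹ = c * (a * (d * a⁻¹ * d⁻¹)) * c⁻¹ * ((c * d * c⁻¹) * d⁻¹) by
      rw [ha]; group, hcd, mul_inv_cancel, mul_one]
    exact D.conj_mem (hdN c hc) (D.A.mul_mem hac (D.conj_mem (hdN d hd) (D.A.inv_mem hac)))
  rw [hnd] at haA
  have h2 := D.two_inf hP haA ((D.two P).mul_mem ((D.two P).inv_mem hd) ((D.two P).inv_mem hd))
  rw [← mul_inv_rev, inv_eq_one] at h2
  have hord : orderOf d = 2 := H26.orderOf_two_of_mul_self h2 hd1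
  exact hd1 (D.two_inf hP (D.invol_mem hord (hdN d hd)) hd)

include hG in
/-- The degree is `|A| + 1`. -/
theorem Setup.card_points : Nat.card (G ⧸ D.N) = Nat.card ↥D.A + 1 := by
  classical
  haveI := Fintype.ofFinite G
  haveI := Fintype.ofFinite (G ⧸ D.N)
  haveI := Fintype.ofFinite ↥D.A
  obtain ⟨P, hP⟩ : ∃ P : G ⧸ D.N, P ≠ D.base := by
    by_contra h
    push Not at h
    refine D.normalizer_ne_top hG ((Subgroup.eq_top_iff' _).2 fun g => ?_)
    exact D.smul_base.1 (h _)
  apply le_antisymm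
  · set T := (Finset.univ : Finset G).filter fun n => n ∈ D.N ∧ n ∉ D.A with hT
    set Y : G ⧸ D.N → Finset G := fun Q =>
      (Finset.univ : Finset G).filter fun d => d ∈ D.two Q ∧ d ≠ 1 with hY
    have hYc : ∀ Q, Q ≠ D.base → (Y Q).card = D.m - 1 := by
      intro Q hQ
      have : Y Q = ((Finset.univ : Finset G).filter fun d => d ∈ D.two Q).erase 1 := by
        ext d; simp [hY, and_comm]
      rw [this, Finset.card_erase_of_mem (Finset.mem_filter.2 ⟨Finset.mem_univ _, one_mem _⟩),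
        ← Fintype.card_subtype, ← Nat.card_eq_fintype_card, (D.swap hG hQ).1]
    have hsub : ((Finset.univ : Finset (G ⧸ D.N)).erase D.base).biUnion Y ⊆ T := by
      intro d hd
      obtain ⟨Q, hQ, hdY⟩ := Finset.mem_biUnion.1 hd
      obtain ⟨-, hd2, hd1⟩ := Finset.mem_filter.1 hdY
      exact Finset.mem_filter.2 ⟨Finset.mem_univ _, D.smul_base.1 (Subgroup.mem_inf.1 hd2).1,
        fun h => hd1 (D.two_inf (Finset.mem_erase.1 hQ).1 h hd2)⟩
    have hdisj : Set.PairwiseDisjoint
        (((Finset.univ : Finset (G ⧸ D.N)).erase D.base) : Set (G ⧸ D.N)) Y := by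
      intro Q hQ Q' hQ' hne
      refine Finset.disjoint_left.2 fun d hd hd' => hne ?_
      obtain ⟨-, h1, h2⟩ := Finset.mem_filter.1 hd
      obtain ⟨-, h3, -⟩ := Finset.mem_filter.1 hd'
      exact D.unique_fix hG (Finset.mem_erase.1 (Finset.mem_coe.1 hQ)).1
        (Finset.mem_erase.1 (Finset.mem_coe.1 hQ')).1 h1 (Subgroup.mem_inf.1 h3).2 h2
    have hTc : T.card = Nat.card ↥D.N - Nat.card ↥D.A := by
      have : T = ((Finset.univ : Finset G).filter fun n => n ∈ D.N) \
          ((Finset.univ : Finset G).filter fun n => n ∈ D.A) := by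
        ext n; simp [hT]
      rw [this, Finset.card_sdiff_of_subset (fun n hn => Finset.mem_filter.2 ⟨Finset.mem_univ _,
        D.A_le (Finset.mem_filter.1 hn).2⟩), ← Fintype.card_subtype, ← Fintype.card_subtype,
        ← Nat.card_eq_fintype_card, ← Nat.card_eq_fintype_card]
    have h := Finset.card_le_card hsub
    rw [Finset.card_biUnion hdisj,
      Finset.sum_congr rfl (fun Q hQ => hYc Q (Finset.mem_erase.1 hQ).1), Finset.sum_const,
      Finset.card_erase_of_mem (Finset.mem_univ _), Finset.card_univ, smul_eq_mul, hTc,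
      ← D.card_N, ← Nat.card_eq_fintype_card, ← Nat.mul_sub_one] at h
    have hm := D.m_ne_one hG
    have hm2 : 0 < D.m - 1 := by
      have := D.m_odd.pos
      omega
    have := Nat.le_of_mul_le_mul_right h hm2
    omega
  · let f : Option ↥D.A → G ⧸ D.N := fun o => o.elim D.base fun a => (a : G) • P
    have hne : ∀ a : ↥D.A, (a : G) • P ≠ D.base := fun a h => hP (by
      rw [← inv_smul_smul (a : G) P, h]
      exact D.smul_base.2 (D.A_le (D.A.inv_mem a.2)))
    have hinj : Function.Injective f := by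
      rintro (_ | a) (_ | b) h
      · rfl
      · exact absurd h.symm (hne b)
      · exact absurd h (hne a)
      · by_contra hab
        refine hP (D.fix (D.A.mul_mem (D.A.inv_mem b.2) a.2) (fun e => hab ?_) ?_)
        · rw [show a = b from Subtype.ext (inv_mul_eq_one.1 e).symm]
        · rw [mul_smul, inv_smul_eq_iff]; exact h
    have := Nat.card_le_card_of_injective f hinj
    rwa [Finite.card_option] at this

include hG in
/-- The action is that of a Zassenhaus group with abelian kernel `A`. -/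
theorem Setup.zassenhaus : Cfsg.IsZassenhausGroup G (G ⧸ D.N) ∧ H28.Zass.IsKer D.base D.A := by
  classical
  have hker : H28.Zass.IsKer D.base D.A :=
    ⟨fun x hx => D.smul_base.2 (D.A_le hx), (D.card_points hG).symm,
      fun x hx hx1 c hc => D.fix hx hx1 hc⟩
  have htr : ∀ P Q : G ⧸ D.N, P ≠ D.base → Q ≠ D.base →
      ∃ a : G, a ∈ D.A ∧ a • P = Q := by
    intro P Q hP hQ
    let f : ↥D.A → {c : G ⧸ D.N // c ≠ D.base} := fun a => ⟨(a : G) • P, fun h => hP (by
      rw [← inv_smul_smul (a : G) P, h]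
      exact D.smul_base.2 (D.A_le (D.A.inv_mem a.2)))⟩
    have hinj : Function.Injective f := fun a b h => by
      by_contra hab
      refine hP (D.fix (D.A.mul_mem (D.A.inv_mem b.2) a.2) (fun e => hab ?_) ?_)
      · exact Subtype.ext (inv_mul_eq_one.1 e).symm
      · rw [mul_smul, inv_smul_eq_iff]; exact congrArg Subtype.val h
    have hle : Nat.card {c : G ⧸ D.N // c ≠ D.base} ≤ Nat.card ↥D.A := by
      haveI := Fintype.ofFinite (G ⧸ D.N)
      rw [Nat.card_eq_fintype_card, Fintype.card_subtype_compl, Fintype.card_subtype_eq,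
        ← Nat.card_eq_fintype_card, D.card_points hG]
      omega
    obtain ⟨a, ha⟩ := (hinj.bijective_of_nat_card_le hle).2 ⟨Q, hQ⟩
    exact ⟨a, a.2, congrArg Subtype.val ha⟩
  obtain ⟨P₀, hP₀⟩ : ∃ P : G ⧸ D.N, P ≠ D.base := by
    by_contra h
    push Not at h
    exact D.normalizer_ne_top hG ((Subgroup.eq_top_iff' _).2 fun g => D.smul_base.1 (h _))
  have hpair : ∀ x y : G ⧸ D.N, x ≠ y → ∃ g : G, g • x = D.base ∧ g • y = P₀ := by
    intro x y hxy
    obtain ⟨g, hg⟩ := MulAction.exists_smul_eq G x D.base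
    obtain ⟨a, ha, hay⟩ := htr (g • y) P₀
      (fun e => hxy (smul_left_cancel g (hg.trans e.symm))) hP₀
    exact ⟨a * g, by rw [mul_smul, hg]; exact D.smul_base.2 (D.A_le ha), by rw [mul_smul, hay]⟩
  obtain ⟨e, he, he1⟩ : ∃ e ∈ D.two P₀, e ≠ 1 := by
    by_contra hcon
    push Not at hcon
    have h := (D.swap hG hP₀).1
    rw [(Subgroup.eq_bot_iff_forall _).2 hcon, Subgroup.card_bot] at h
    exact D.m_ne_one hG h.symm
  refine ⟨⟨?_, ?_, ?_, ⟨e, he1, D.base, P₀, hP₀.symm, (Subgroup.mem_inf.1 he).1,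
    (Subgroup.mem_inf.1 he).2⟩, ?_⟩, hker⟩
  · refine ⟨fun {g g'} hgg => ?_⟩
    by_contra hne
    set K := (MulAction.toPermHom G (G ⧸ D.N)).ker with hK
    have hmem : g⁻¹ * g' ∈ K := by
      rw [hK, MonoidHom.mem_ker]
      ext w
      simp [mul_smul, ← hgg]
    rcases Subgroup.Normal.eq_bot_or_eq_top (show K.Normal by rw [hK]; infer_instance) with h | h
    · rw [h, Subgroup.mem_bot, inv_mul_eq_one] at hmem
      exact hne hmem
    · refine D.normalizer_ne_top hG ((Subgroup.eq_top_iff' _).2 fun g => D.smul_base.1 ?_)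
      have : g ∈ K := h ▸ Subgroup.mem_top g
      rw [hK, MonoidHom.mem_ker] at this
      exact congrArg (fun σ : Equiv.Perm (G ⧸ D.N) => σ D.base) this
  · rw [MulAction.is_two_pretransitive_iff]
    intro x y x' y' hxy hxy'
    obtain ⟨g, hg1, hg2⟩ := hpair x y hxy
    obtain ⟨g', hg1', hg2'⟩ := hpair x' y' hxy'
    exact ⟨g'⁻¹ * g, by rw [mul_smul, hg1, ← hg1', inv_smul_smul],
      by rw [mul_smul, hg2, ← hg2', inv_smul_smul]⟩
  · intro g x y z hxy hyz hxz hgx hgy hgz
    obtain ⟨f, hfx, hfy⟩ := hpair x y hxy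
    have hfix : ∀ w : G ⧸ D.N, g • w = w → (f * g * f⁻¹) • f • w = f • w := fun w hw => by
      rw [← mul_smul, inv_mul_cancel_right, mul_smul, hw]
    by_contra hg1
    have hmem : f * g * f⁻¹ ∈ D.two P₀ :=
      Subgroup.mem_inf.2 ⟨hfx ▸ hfix x hgx, hfy ▸ hfix y hgy⟩
    refine hyz (smul_left_cancel f ?_)
    rw [hfy]
    exact D.unique_fix hG hP₀ (fun e => hxz (smul_left_cancel f (hfx.trans e.symm)))
      hmem (hfix z hgz) (fun e => hg1 (conj_eq_one_iff.1 e))
  · intro M hM hMt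
    refine ⟨D.base, fun h => ?_⟩
    rcases Subgroup.Normal.eq_bot_or_eq_top hM with rfl | rfl
    · obtain ⟨m, hm⟩ := hMt.exists_smul_eq D.base P₀
      have : (m : G) = 1 := Subgroup.mem_bot.1 m.2
      exact hP₀ (by rw [← hm, Subgroup.smul_def, this, one_smul])
    · have hmem : (⟨e, Subgroup.mem_top _⟩ : (⊤ : Subgroup G)) ∈
          stabilizer (⊤ : Subgroup G) D.base := (Subgroup.mem_inf.1 he).1
      replace hmem := h.le hmem
      rw [Subgroup.mem_bot] at hmem
      exact he1 (congrArg Subtype.val hmem)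

include hG in
/-- The group is `PGL(2, 2^f)`. -/
theorem Setup.exists_equiv (D : Setup G) : ∃ (F : Type) (_ : Field F) (_ : Fintype F) (f : ℕ),
    2 ≤ f ∧ Fintype.card F = 2 ^ f ∧ Nat.card ↥D.A = 2 ^ f ∧ D.m + 1 = 2 ^ f ∧
      Nonempty (G ≃* Matrix.ProjGenLinGroup (Fin 2) F) := by
  classical
  obtain ⟨hZ, hker⟩ := D.zassenhaus hG
  haveI := hZ.1
  obtain ⟨P, hP, -⟩ := H28.Zass.exists_third hZ D.base D.base
  have hcard := (D.swap hG hP).1
  have hAeq : D.m + 1 = Nat.card ↥D.A := by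
    rcases H28.Zass.kernel_cases hker hZ hP.symm (fun x hx y hy => (D.comm x hx y hy).eq) with h | h
    · rwa [hcard] at h
    · rw [hcard] at h
      have h2 := D.two_dvd_A
      omega
  -- `A` has exponent 2
  haveI := Fintype.ofFinite G
  have hsq : ∀ x ∈ D.A, x * x = 1 := by
    have h := D.card_invol_A hG
    rw [Nat.card_eq_fintype_card, Fintype.card_subtype] at h
    have hA : ((Finset.univ : Finset G).filter fun x => x ∈ D.A).card = Nat.card ↥D.A := by
      rw [Nat.card_eq_fintype_card, Fintype.card_subtype]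
    intro x hx
    by_contra hne
    have hsub : insert x (insert 1 ((Finset.univ : Finset G).filter fun x =>
        x ∈ D.A ∧ orderOf x = 2)) ⊆ (Finset.univ : Finset G).filter fun x => x ∈ D.A := by
      intro y hy
      simp only [Finset.mem_insert, Finset.mem_filter, Finset.mem_univ, true_and] at hy ⊢
      rcases hy with rfl | rfl | hy
      exacts [hx, D.A.one_mem, hy.1]
    have hc := Finset.card_le_card hsub
    rw [Finset.card_insert_of_notMem, Finset.card_insert_of_notMem, h, hA] at hc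
    · omega
    · simp
    · simp only [Finset.mem_insert, Finset.mem_filter, Finset.mem_univ, true_and, not_or]
      exact ⟨fun e => hne (by rw [e, mul_one]),
        fun e => hne (mul_self_eq_one e.2)⟩
  obtain ⟨f, hf⟩ : ∃ f, Nat.card ↥D.A = 2 ^ f := by
    haveI : Fact (Nat.Prime 2) := ⟨Nat.prime_two⟩
    exact IsPGroup.iff_card.1 fun x => ⟨1, Subtype.ext (by
      rw [pow_one, pow_two, Subgroup.coe_mul]; exact hsq x x.2)⟩
  have hf2 : 2 ≤ f := by
    have h1 := D.m_ne_one hG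
    have h2 := D.m_odd.pos
    by_contra hlt
    have : 2 ^ f ≤ 2 ^ 1 := Nat.pow_le_pow_right (by norm_num) (by omega)
    omega
  haveI := Fintype.ofFinite (G ⧸ D.N)
  obtain ⟨h3, hsharp⟩ := H28.Zass.sharp_triple hker hZ hP.symm (by rw [hcard]; exact hAeq)
  set ρ := MulAction.toPermHom G (G ⧸ D.N) with hρ
  have hinj : Function.Injective ρ := fun g g' h =>
    eq_of_smul_eq_smul (α := G ⧸ D.N) fun w => DFunLike.congr_fun h w
  have h3' : IsMultiplyPretransitive ρ.range (G ⧸ D.N) 3 := by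
    rw [MulAction.isMultiplyPretransitive_iff]
    intro x y
    obtain ⟨g, hg⟩ := (MulAction.isMultiplyPretransitive_iff.1 h3) x y
    exact ⟨⟨ρ g, g, rfl⟩, hg⟩
  have hsharp' : ∀ x : Fin 3 ↪ G ⧸ D.N, stabilizer ρ.range x = ⊥ := by
    intro x
    rw [Subgroup.eq_bot_iff_forall]
    rintro ⟨_, g, rfl⟩ hg
    have : g ∈ stabilizer G x := hg
    rw [hsharp x, Subgroup.mem_bot] at this
    subst this; exact Subtype.ext (map_one ρ)
  have hdeg : Fintype.card (G ⧸ D.N) = 2 ^ f + 1 := by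
    rw [← Nat.card_eq_fintype_card, D.card_points hG, hf]
  obtain ⟨F, hF, hF', hFc, ⟨e⟩⟩ := S0727.result (by omega) hdeg ρ.range h3' hsharp'
  exact ⟨F, hF, hF', f, hf2, hFc, hf, hAeq.trans hf, ⟨(MonoidHom.ofInjective hinj).trans e⟩⟩

end Cfsg.Agent.H65.CT
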